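import Groth.Prelude.Def_AlgEqCyc
import Groth.Agent.Cyc90.DimFun
import Mathlib.AlgebraicGeometry.AlgClosed.Basic
import Mathlib.AlgebraicGeometry.Morphisms.UniversallyClosed
import Mathlib.RingTheory.HopkinsLevitzki

/-!
A family of cycles with finite fibres over an open whose members over rational points vanish is zero.
-/

universe u

open CategoryTheory CategoryTheory.Limits AlgebraicGeometry

namespace Groth.Agent.H98Corr

/-- Points of a finite closed subset of a Jacobson space are closed. -/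
theorem isClosed_singleton_of_finite {Y : Type*} [TopologicalSpace Y] [JacobsonSpace Y] {S : Set Y}
    (hS : IsClosed S) (hf : S.Finite) {y : Y} (hy : y ∈ S) : IsClosed ({y} : Set Y) := by
  have h1 : y ∈ closure (S ∩ closedPoints Y) := by
    rw [JacobsonSpace.closure_inter_closedPoints_eq_closure hS.isLocallyClosed, hS.closure_eq]
    exact hy
  have h2 : IsClosed (S ∩ closedPoints Y) := by
    rw [← (S ∩ closedPoints Y).biUnion_of_singleton]
    exact (hf.subset Set.inter_subset_left).isClosed_biUnion fun x hx => hx.2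
  rw [h2.closure_eq] at h1
  exact h1.2

variable {P C : Scheme.{u}} (g : P ⟶ C)

/-- The only point of a finite fibre of the closure of `ξ` above `g ξ` is `ξ`. -/
theorem eq_of_finite_fibre [LocallyOfFiniteType g] {ξ z : P} (hfin : (closure {ξ} ∩ g ⁻¹' {g ξ}).Finite)
    (hz : ξ ⤳ z) (hgz : g z = g ξ) : z = ξ := by
  obtain ⟨ξ', hξ'⟩ : ξ ∈ Set.range (g.fiberι (g ξ)) := by rw [Scheme.Hom.range_fiberι]; rfl
  obtain ⟨z', hz'⟩ : z ∈ Set.range (g.fiberι (g ξ)) := by rw [Scheme.Hom.range_fiberι]; exact hgz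
  have hinj : Function.Injective (g.fiberι (g ξ)) := (g.fiberι (g ξ)).isEmbedding.injective
  have hS : IsClosed (g.fiberι (g ξ) ⁻¹' closure {ξ}) := isClosed_closure.preimage (g.fiberι (g ξ)).continuous
  have hSf : (g.fiberι (g ξ) ⁻¹' closure {ξ}).Finite := by
    refine (hfin.preimage hinj.injOn).subset fun a ha => ⟨ha, ?_⟩
    exact (Scheme.Hom.range_fiberι g (g ξ)).le ⟨a, rfl⟩
  have h1 := isClosed_singleton_of_finite hS hSf (y := ξ') (by
    change g.fiberι (g ξ) ξ' ∈ closure {ξ}
    rw [hξ']; exact subset_closure rfl)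
  have h2 : ξ' ⤳ z' := by
    rw [← (g.fiberι (g ξ)).isEmbedding.isInducing.specializes_iff, hξ', hz']; exact hz
  exact hz'.symm.trans ((congrArg (g.fiberι (g ξ)) (h2.mem_closed h1 (Set.mem_singleton ξ') : z' = ξ')).trans hξ')

/-- The multiplicity of a fibre at an isolated point of it is positive. -/
theorem fibreMult_ne_zero [IsLocallyNoetherian P] [JacobsonSpace P] {v w : P} (h : w ⤳ v)
    (hv : IsClosed ({g v} : Set C)) (hfin : (closure {w} ∩ g ⁻¹' {g v}).Finite) :
    AlgEqCyc.fibreMult g v w h ≠ 0 := by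
  have hS : IsClosed (closure {w} ∩ g ⁻¹' {g v}) := isClosed_closure.inter (hv.preimage g.continuous)
  unfold AlgEqCyc.fibreMult
  set K := RingHom.ker (Cyc.specMap v w h) with hK
  set J := (IsLocalRing.maximalIdeal (C.presheaf.stalk (g v))).map
    ((Ideal.Quotient.mk K).comp (g.stalkMap v).hom) with hJ
  let O := P.presheaf.stalk v
  have hKm : K ≤ IsLocalRing.maximalIdeal O := IsLocalRing.le_maximalIdeal (RingHom.ker_ne_top _)
  let π : O →+* (Cyc.LocQuot v w h ⧸ J) := (Ideal.Quotient.mk J).comp (Ideal.Quotient.mk K)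
  have hπ : Function.Surjective π := Ideal.Quotient.mk_surjective.comp Ideal.Quotient.mk_surjective
  have hJne : J ≠ ⊤ := by
    intro htop
    have h1 : J.comap (Ideal.Quotient.mk K) ≤ IsLocalRing.maximalIdeal O := by
      rw [hJ, ← Ideal.map_map, Ideal.comap_map_of_surjective _ Ideal.Quotient.mk_surjective,
        ← RingHom.ker_eq_comap_bot, Ideal.mk_ker]
      refine sup_le ?_ hKm
      rw [Ideal.map_le_iff_le_comap]
      exact fun a ha => map_nonunit _ a ha
    rw [htop, Ideal.comap_top] at h1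
    exact IsLocalRing.maximalIdeal.isMaximal O |>.ne_top (top_le_iff.1 h1)
  have : Nontrivial (Cyc.LocQuot v w h ⧸ J) := Ideal.Quotient.nontrivial_iff.2 hJne
  have : Ring.KrullDimLE 0 (Cyc.LocQuot v w h ⧸ J) := by
    rw [Ring.krullDimLE_zero_iff]
    intro Q hQ
    have hQc : (Q.comap π).IsPrime := Ideal.IsPrime.comap π
    let q : PrimeSpectrum O := ⟨Q.comap π, hQc⟩
    have hKq : K ≤ q.asIdeal := fun a ha => by
      change π a ∈ Q
      rw [RingHom.comp_apply, Ideal.Quotient.eq_zero_iff_mem.2 ha, map_zero]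
      exact Q.zero_mem
    have hwz : w ⤳ Cyc90.ptOf q := by
      have := Cyc90.ptOf_specializes_of_le (p := Cyc90.genPrime h) (q := q) (by
        change (Cyc90.genPrime h).asIdeal ≤ q.asIdeal
        rw [← Cyc90.ker_specMap]; exact hKq)
      rwa [Cyc90.ptOf_genPrime] at this
    have hgz : g (Cyc90.ptOf q) = g v := by
      have hle : IsLocalRing.maximalIdeal (C.presheaf.stalk (g v)) ≤
          q.asIdeal.comap (g.stalkMap v).hom := fun a ha => by
        change π ((g.stalkMap v).hom a) ∈ Q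
        have : (Ideal.Quotient.mk K) ((g.stalkMap v).hom a) ∈ J := Ideal.mem_map_of_mem _ ha
        rw [RingHom.comp_apply, Ideal.Quotient.eq_zero_iff_mem.2 this]
        exact Q.zero_mem
      have heq : (PrimeSpectrum.comap (g.stalkMap v).hom q) = IsLocalRing.closedPoint _ :=
        PrimeSpectrum.ext ((IsLocalRing.le_maximalIdeal (Ideal.IsPrime.comap _).ne_top).antisymm hle)
      have h2 : g (Cyc90.ptOf q) = C.fromSpecStalk (g v) (Spec.map (g.stalkMap v) q) := by
        rw [← Scheme.Hom.comp_apply, ← Scheme.SpecMap_stalkMap_fromSpecStalk g (x := v)]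
        rfl
      rw [h2, show Spec.map (g.stalkMap v) q = IsLocalRing.closedPoint _ from heq,
        Scheme.fromSpecStalk_closedPoint]
    have hz : IsClosed ({Cyc90.ptOf q} : Set P) :=
      isClosed_singleton_of_finite hS hfin ⟨hwz.mem_closure, hgz⟩
    have hzv : Cyc90.ptOf q ⤳ v := Scheme.range_fromSpecStalk.le ⟨q, rfl⟩
    have hq : q = IsLocalRing.closedPoint O := by
      refine Cyc90.ptOf_injective v ?_
      rw [← show v = Cyc90.ptOf q from hzv.mem_closed hz rfl]
      exact Scheme.fromSpecStalk_closedPoint.symm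
    have hmax : (Q.comap π).IsMaximal := by
      rw [show Q.comap π = IsLocalRing.maximalIdeal O from congrArg PrimeSpectrum.asIdeal hq]
      infer_instance
    exact Ideal.map_comap_of_surjective π hπ Q ▸
      (Ideal.map_eq_top_or_isMaximal_of_surjective π hπ hmax).resolve_left
        (by rw [Ideal.map_comap_of_surjective π hπ]; exact hQ.ne_top)
  have hart : IsArtinianRing (Cyc.LocQuot v w h ⧸ J) := IsNoetherianRing.isArtinianRing_of_krullDimLE_zero
  have hlen : Module.length O (Cyc.LocQuot v w h ⧸ J) ≠ ⊤ := by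
    rw [Module.length_ne_top_iff, isFiniteLength_iff_isNoetherian_isArtinian]
    exact ⟨isNoetherian_of_surjective (Algebra.linearMap O (Cyc.LocQuot v w h ⧸ J))
      (LinearMap.range_eq_top.2 hπ),
      isArtinian_of_surjective_algebraMap (R := Cyc.LocQuot v w h ⧸ J) (S := O) hπ⟩
  rw [ne_eq, ENat.toNat_eq_zero, not_or]
  exact ⟨(Module.length_pos_iff.2 inferInstance).ne', hlen⟩

variable {k : Type u} [Field k] [IsAlgClosed k] {X : Scheme.{u}} (p : X ⟶ Spec (CommRingCat.of k))
  (q : C ⟶ Spec (CommRingCat.of k))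

/-- A family of cycles, finite over a nonempty open of the base, with vanishing members, is zero. -/
theorem cycle_eq_zero [LocallyOfFiniteType q] [IrreducibleSpace C] [IsProper p] [CompactSpace C]
    (W : AlgebraicCycle (pullback p q) ℤ)
    (hvert : ∀ ξ, W ξ ≠ 0 → pullback.snd p q ξ = genericPoint C)
    (U : C.Opens) (hU : (U : Set C).Nonempty)
    (hfin : ∀ ξ, W ξ ≠ 0 → ∀ w ∈ U, (closure {ξ} ∩ pullback.snd p q ⁻¹' {w}).Finite)
    (hzero : ∀ (u : Spec (CommRingCat.of k) ⟶ C) (hu : u ≫ q = 𝟙 _),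
      u (IsLocalRing.closedPoint k) ∈ U → ∀ x : X, AlgEqCyc.fibreFun p q W u hu x = 0) :
    W = 0 := by
  set s := pullback.snd p q with hs
  have : IsProper s := MorphismProperty.pullback_snd _ _ ‹IsProper p›
  have : IsLocallyNoetherian C := LocallyOfFiniteType.isLocallyNoetherian q
  have : IsLocallyNoetherian (pullback p q) := LocallyOfFiniteType.isLocallyNoetherian s
  have : JacobsonSpace C := LocallyOfFiniteType.jacobsonSpace q
  have : JacobsonSpace ↥(pullback p q) := LocallyOfFiniteType.jacobsonSpace s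
  have : CompactSpace ↥(pullback p q) := QuasiCompact.compactSpace_of_compactSpace s
  have hηU : genericPoint C ∈ U :=
    ((genericPoint_spec C).mem_open_set_iff U.2).2 (by simpa using hU)
  ext ξ
  by_contra hξ
  have hξ' : W ξ ≠ 0 := hξ
  have hsupp : {a : ↥(pullback p q) | W a ≠ 0}.Finite := by
    choose t ht hft using fun a : ↥(pullback p q) =>
      W.supportLocallyFiniteWithinDomain a (Set.mem_univ a)
    obtain ⟨T, hT⟩ := isCompact_univ.elim_nhds_subcover t fun a _ => ht a
    refine (T.finite_toSet.biUnion fun a _ => hft a).subset fun b hb => ?_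
    obtain ⟨a, ha, hab⟩ := Set.mem_iUnion₂.1 (hT.2 (Set.mem_univ b))
    exact Set.mem_iUnion₂.2 ⟨a, ha, hab, hb⟩
  let E : Set ↥(pullback p q) := ⋃ a ∈ {a : ↥(pullback p q) | W a ≠ 0} \ {ξ}, closure {ξ} ∩ closure {a}
  have hE : IsClosed E :=
    (hsupp.subset Set.sdiff_subset).isClosed_biUnion fun a _ => isClosed_closure.inter isClosed_closure
  have hηE : genericPoint C ∉ s '' E := by
    rintro ⟨z, hz, hsz⟩
    obtain ⟨a, ⟨ha, hne⟩, h1, h2⟩ := Set.mem_iUnion₂.1 hz
    have hsz' : ∀ b, W b ≠ 0 → s z = s b := fun b hb => hsz.trans (hvert b hb).symm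
    have e1 : z = ξ := eq_of_finite_fibre s (hfin ξ hξ' _ (by rw [hvert ξ hξ']; exact hηU))
      (specializes_iff_mem_closure.2 h1) (hsz' ξ hξ')
    have e2 : z = a := eq_of_finite_fibre s (hfin a ha _ (by rw [hvert a ha]; exact hηU))
      (specializes_iff_mem_closure.2 h2) (hsz' a ha)
    exact hne (e2.symm.trans e1)
  obtain ⟨w, ⟨hwU, hwE⟩, hw⟩ := nonempty_inter_closedPoints
    (Z := (U : Set C) ∩ (s '' E)ᶜ) ⟨genericPoint C, hηU, hηE⟩
    (U.2.inter (s.isClosedMap _ hE).isOpen_compl).isLocallyClosed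
  let u : Spec (CommRingCat.of k) ⟶ C := pointOfClosedPoint q w hw
  have hu : u ≫ q = 𝟙 _ := pointOfClosedPoint_comp q w hw
  have huw : ∀ a, u a = w := pointOfClosedPoint_apply q w hw
  have himg : w ∈ s '' closure {ξ} := by
    refine closure_minimal ?_ (s.isClosedMap _ isClosed_closure)
      (show w ∈ closure {genericPoint C} by rw [genericPoint_closure]; trivial)
    exact Set.singleton_subset_iff.2 ⟨ξ, subset_closure rfl, hvert ξ hξ'⟩
  obtain ⟨v, hv, hsv⟩ := himg
  have hsl : IsPullback (AlgEqCyc.slice p q u hu) p s u := by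
    refine IsPullback.of_right ?_ (pullback.lift_snd _ _ _) (IsPullback.of_hasPullback p q)
    rw [show AlgEqCyc.slice p q u hu ≫ pullback.fst p q = 𝟙 X from pullback.lift_fst _ _ _, hu]
    exact IsPullback.of_horiz_isIso ⟨by simp⟩
  obtain ⟨x, hx, -⟩ := Scheme.exists_preimage_of_isPullback hsl v (IsLocalRing.closedPoint k)
    (by rw [hsv, huw])
  have hsum := hzero u hu (by rw [huw]; exact hwU) x
  have hspec : ξ ⤳ AlgEqCyc.slice p q u hu x := by
    rw [hx]; exact specializes_iff_mem_closure.2 hv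
  rw [AlgEqCyc.fibreFun, finsum_eq_single _ ⟨ξ, hξ', hspec⟩] at hsum
  · refine (mul_ne_zero hξ' (Int.ofNat_ne_zero.2 (fibreMult_ne_zero s hspec ?_ ?_))) hsum
    · rw [hx, hsv]; exact hw
    · rw [hx, hsv]; exact hfin ξ hξ' w hwU
  · rintro ⟨a, ha, hav⟩ hne
    exfalso
    refine hwE ⟨v, Set.mem_iUnion₂.2 ⟨a, ⟨ha, fun e => hne (Subtype.ext e)⟩, hv, ?_⟩, hsv⟩
    rw [← hx]; exact hav.mem_closure

end Groth.Agent.H98Corr
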