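import Groth.Agent.S10860
import Groth.Agent.S0386
import Groth.Agent.S0414
import Mathlib.AlgebraicGeometry.Morphisms.Flat
import Mathlib.Topology.KrullDimension

/-!
Flat locus and finite locus on the base of a proper morphism; chains of closed sets lift along closed maps.
-/

universe u

open CategoryTheory CategoryTheory.Limits AlgebraicGeometry TopologicalSpace

namespace Groth.Agent.H98Corr

/-- Chains of irreducible closed subsets lift along a closed map of sober spaces. -/
theorem exists_series_of_subset_image {Z W : Type*} [TopologicalSpace Z] [TopologicalSpace W]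
    [QuasiSober W] {f : Z → W} (hc : Continuous f) (hcl : IsClosedMap f) (m : ℕ) :
    ∀ p : LTSeries (IrreducibleCloseds W), p.length = m → ∀ C : IrreducibleCloseds Z,
      (p.last : Set W) ⊆ f '' C → ∃ q : LTSeries (IrreducibleCloseds Z), q.length = m ∧ q.last ≤ C := by
  induction m with
  | zero => exact fun p _ C _ => ⟨RelSeries.singleton _ C, rfl, le_rfl⟩
  | succ m ih =>
    intro p hp C hC
    have hlt : (p.eraseLast.last : IrreducibleCloseds W) < p.last :=
      p.eraseLast_last_rel_last (by omega)
    obtain ⟨y, hy⟩ := QuasiSober.sober p.eraseLast.last.isIrreducible p.eraseLast.last.isClosed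
    obtain ⟨c, hcC, hcy⟩ := hC (hlt.le hy.mem)
    let C' : IrreducibleCloseds Z := ⟨closure {c}, isIrreducible_singleton.closure, isClosed_closure⟩
    have hC'le : C' ≤ C := closure_minimal (Set.singleton_subset_iff.2 hcC) C.isClosed
    have hC'lt : C' < C := by
      refine lt_of_le_of_ne hC'le fun h => hlt.not_ge ?_
      intro w hw
      obtain ⟨c', hc', rfl⟩ := hC hw
      rw [← h] at hc'
      have : f c' ∈ closure {f c} := by
        rw [← Set.image_singleton]
        exact image_closure_subset_closure_image hc ⟨c', hc', rfl⟩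
      rw [hcy, hy] at this
      exact this
    have hsub : (p.eraseLast.last : Set W) ⊆ f '' C' := by
      rw [← hy.def]
      refine closure_minimal ?_ (hcl _ C'.isClosed)
      exact Set.singleton_subset_iff.2 ⟨c, subset_closure rfl, hcy⟩
    obtain ⟨q, hq, hqC⟩ := ih p.eraseLast (by simp [hp]) C' hsub
    exact ⟨q.snoc C (hqC.trans_lt hC'lt), by simp [hq], by simp⟩

variable {Z W : Scheme.{u}} (f : Z ⟶ W)

/-- A closed morphism between irreducible schemes of equal finite dimension has finite fibre over
the generic point. -/
theorem finite_fibre_genericPoint [IrreducibleSpace Z] [IrreducibleSpace W] [IsProper f]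
    {n : ℕ} (hZ : topologicalKrullDim Z = n) (hW : topologicalKrullDim W = n) :
    (f.base ⁻¹' {genericPoint W}).Finite := by
  refine (Set.finite_singleton (genericPoint Z)).subset fun z hz => ?_
  have hz' : f z = genericPoint W := hz
  by_contra hne
  have hne' : z ≠ genericPoint Z := hne
  obtain ⟨p, hp⟩ := Order.le_krullDim_iff.1 (show (n : WithBot ℕ∞) ≤ Order.krullDim (IrreducibleCloseds W) from hW.ge)
  let C : IrreducibleCloseds Z := ⟨closure {z}, isIrreducible_singleton.closure, isClosed_closure⟩
  have hsub : (p.last : Set W) ⊆ f '' C := by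
    refine (Set.subset_univ _).trans ?_
    rw [← genericPoint_closure]
    refine closure_minimal ?_ (f.isClosedMap _ C.isClosed)
    exact Set.singleton_subset_iff.2 ⟨z, subset_closure rfl, hz'⟩
  obtain ⟨q, hq, hqC⟩ := exists_series_of_subset_image f.continuous f.isClosedMap n p hp C hsub
  let T : IrreducibleCloseds Z := ⟨Set.univ, IrreducibleSpace.isIrreducible_univ _, isClosed_univ⟩
  have hCT : C < T := by
    refine lt_of_le_of_ne (Set.subset_univ _) fun h => hne' ?_
    have h1 : IsGenericPoint z (Set.univ : Set Z) := congrArg (fun A : IrreducibleCloseds Z => (A : Set Z)) h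
    exact h1.eq (genericPoint_spec Z)
  have h1 := Order.LTSeries.length_le_krullDim (q.snoc T (hqC.trans_lt hCT))
  rw [show Order.krullDim (IrreducibleCloseds Z) = n from hZ] at h1
  simp [hq] at h1
  norm_cast at h1
  omega

/-- The locus of the base over which a proper morphism is flat is open. -/
theorem isOpen_flat_base [IsProper f] [LocallyOfFinitePresentation f] :
    IsOpen {w : W | ∀ z : Z, f z = w → (f.stalkMap z).hom.Flat} := by
  have h : {w : W | ∀ z : Z, f z = w → (f.stalkMap z).hom.Flat} =
      (f '' {z : Z | (f.stalkMap z).hom.Flat}ᶜ)ᶜ := by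
    ext w
    simp only [Set.mem_setOf_eq, Set.mem_compl_iff, Set.mem_image, not_exists, not_and]
    exact ⟨fun H z hz e => hz (H z e), fun H z e => by_contra fun hn => H z hn e⟩
  rw [h]
  exact (f.isClosedMap _ (S0386.result f).isClosed_compl).isOpen_compl

/-- The locus of the base over which a finite type morphism to a nonempty reduced scheme is flat is nonempty. -/
theorem nonempty_flat_base [IsReduced W] [Nonempty W] [LocallyOfFiniteType f] [QuasiCompact f] :
    {w : W | ∀ z : Z, f z = w → (f.stalkMap z).hom.Flat}.Nonempty := by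
  obtain ⟨U, hU, hflat, -⟩ := S0414.result f
  obtain ⟨w, hw⟩ := hU.nonempty
  refine ⟨w, fun z hz => ?_⟩
  have hzU : z ∈ f ⁻¹ᵁ U := show f z ∈ U from hz ▸ hw
  have h := @Flat.stalkMap _ _ (f ∣_ U) hflat ⟨z, hzU⟩
  have : (RingHom.toMorphismProperty RingHom.Flat).RespectsIso :=
    RingHom.toMorphismProperty_respectsIso_iff.mp RingHom.Flat.respectsIso
  exact ((RingHom.toMorphismProperty RingHom.Flat).arrow_mk_iso_iff
    (morphismRestrictStalkMap f U ⟨z, hzU⟩)).1 h

end Groth.Agent.H98Corr
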